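import Groth.Agent.Lib.FixPt13.OneDim
import Groth.Agent.Lib.RedPts.Ga
import Groth.Agent.Lib.Repr.GmPts
import Mathlib

/-!
# Fixed points of actions of the additive and the multiplicative group on proper schemes
-/

universe u

open CategoryTheory CategoryTheory.Limits MonoidalCategory CartesianMonoidalCategory MonObj GrpObj
open AlgebraicGeometry VecGrp PowerSeries

set_option backward.isDefEq.respectTransparency false
set_option synthInstance.maxHeartbeats 400000
set_option maxHeartbeats 1000000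

noncomputable section

namespace GrothLib.FixPt13

attribute [-instance] ULift.module

variable {k : Type u} [Field k]

/-- An object with universal affine point is affine. -/
theorem exists_iso_of_universal {H : Over (Spec (CommRingCat.of k))} {R : Type u} [CommRing R] [Algebra k R]
    (v : pt k R ⟶ H) (hv : ∀ (C : Type u) [CommRing C] [Algebra k C] (x : pt k C ⟶ H),
      ∃! φ : R →ₐ[k] C, ptMap φ ≫ v = x) : IsIso v := by
  choose φ hφ hu using hv
  obtain ⟨f, hf⟩ := Repr.exists_hom_of_natural (X := pt k R) (fun C _ _ x => ptMap (φ C x)) (by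
    intro C C' _ _ _ _ ψ x
    rw [← Repr.ptMap_comp]
    refine congrArg ptMap (hu _ _ _ ?_)
    show ptMap (ψ.comp (φ C x)) ≫ v = _
    rw [Repr.ptMap_comp, Category.assoc, hφ])
  refine ⟨f, ?_, ?_⟩
  · rw [← Repr.ptMap_id, hf]
    refine congrArg ptMap (hu _ _ (AlgHom.id k R) ?_).symm
    show ptMap (AlgHom.id k R) ≫ v = v
    rw [Repr.ptMap_id, Category.id_comp]
  · refine Repr.hom_ext_pts fun C _ _ x => ?_
    rw [← Category.assoc, hf, hφ, Category.comp_id]

/-- The generic point of an affine integral group. -/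
theorem dominant_generic {H : Over (Spec (CommRingCat.of k))} {R : Type u} [CommRing R] [IsDomain R] [Algebra k R]
    (v : pt k R ⟶ H) [IsIso v] :
    IsIntegral H.left ∧ IsDominant (ptMap (IsScalarTower.toAlgHom k R (FractionRing R)) ≫ v).left := by
  haveI : IsIso v.left := inferInstanceAs (IsIso ((Over.forget _).map v))
  haveI : IsIntegral (pt k R).left := inferInstanceAs (IsIntegral (Spec (CommRingCat.of R)))
  refine ⟨.of_isIso v.left, ?_⟩
  haveI : IsDominant (ptMap (IsScalarTower.toAlgHom k R (FractionRing R))).left := by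
    rw [ptMap_left]
    refine ⟨(PrimeSpectrum.denseRange_comap_iff_ker_le_nilRadical
      (IsScalarTower.toAlgHom k R (FractionRing R)).toRingHom).mpr ?_⟩
    rw [(RingHom.injective_iff_ker_eq_bot _).mp (show Function.Injective
      (IsScalarTower.toAlgHom k R (FractionRing R)).toRingHom from IsFractionRing.injective R (FractionRing R))]
    exact bot_le
  rw [Over.comp_left]
  infer_instance

/-- Extension of a map of power series rings to Laurent series. -/
theorem exists_extend {K : Type u} [Field K] [Algebra k K] (σ : k⟦X⟧ →ₐ[k] K⟦X⟧) (hσ : σ X ≠ 0)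
    (lK : K⟦X⟧ →ₐ[k] (FractionRing K⟦X⟧)) (hlK : Function.Injective lK) :
    ∃ σ' : (FractionRing k⟦X⟧) →ₐ[k] (FractionRing K⟦X⟧),
      ∀ f : k⟦X⟧, σ' (algebraMap k⟦X⟧ ((FractionRing k⟦X⟧)) f) = lK (σ f) := by
  have hinj : Function.Injective σ := by
    rw [injective_iff_map_eq_zero]
    intro f hf
    by_contra hne
    have h0 : constantCoeff (PowerSeries.divXPowOrder f) ≠ 0 := by
      rw [ne_eq, constantCoeff_divXPowOrder_eq_zero_iff]
      exact hne
    have hu : IsUnit (PowerSeries.divXPowOrder f) := isUnit_iff_constantCoeff.mpr (isUnit_iff_ne_zero.mpr h0)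
    have h1 : σ (X ^ f.order.toNat * PowerSeries.divXPowOrder f) = 0 := by
      rw [X_pow_order_mul_divXPowOrder]
      exact hf
    rw [map_mul, map_pow, mul_eq_zero] at h1
    rcases h1 with h1 | h1
    · exact hσ (eq_zero_of_pow_eq_zero h1)
    · exact (hu.map σ).ne_zero h1
  let r : (FractionRing k⟦X⟧) →+* (FractionRing K⟦X⟧) := IsFractionRing.lift (g := (lK.comp σ).toRingHom) (hlK.comp hinj)
  refine ⟨{ r with commutes' := fun c => ?_ }, fun f => IsFractionRing.lift_algebraMap (g := (lK.comp σ).toRingHom) (hlK.comp hinj) f⟩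
  have e : algebraMap k ((FractionRing k⟦X⟧)) c = algebraMap k⟦X⟧ ((FractionRing k⟦X⟧)) (algebraMap k k⟦X⟧ c) :=
    IsScalarTower.algebraMap_apply k k⟦X⟧ ((FractionRing k⟦X⟧)) c
  show r (algebraMap k ((FractionRing k⟦X⟧)) c) = _
  rw [e, IsFractionRing.lift_algebraMap]
  exact (lK.comp σ).commutes c

/-- Substitution of a multiple of the variable. -/
theorem exists_subst {K : Type u} [Field K] [Algebra k K] (w : K⟦X⟧) (hw : constantCoeff w = 0) :
    ∃ σ : k⟦X⟧ →ₐ[k] K⟦X⟧, σ X = w ∧ ∀ f, constantCoeff (σ f) = algebraMap k K (constantCoeff f) := by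
  have hs : HasSubst w := HasSubst.of_constantCoeff_zero' hw
  let m : k⟦X⟧ →+* K⟦X⟧ := PowerSeries.map (algebraMap k K)
  let r : k⟦X⟧ →+* K⟦X⟧ := (substAlgHom (R := K) hs).toRingHom.comp m
  have hm : ∀ c, m (algebraMap k k⟦X⟧ c) = algebraMap K K⟦X⟧ (algebraMap k K c) := fun c => by
    simp [m]
  let σ : k⟦X⟧ →ₐ[k] K⟦X⟧ :=
    { r with
      commutes' := fun c => (congrArg (substAlgHom (R := K) hs) (hm c)).trans
        ((AlgHom.commutes _ _).trans (IsScalarTower.algebraMap_apply k K K⟦X⟧ c).symm) }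
  have hX : σ X = w := by
    show substAlgHom (R := K) hs (m X) = w
    simp [m, substAlgHom_X]
  refine ⟨σ, hX, fun f => ?_⟩
  have hC : f = X * (PowerSeries.mk fun n => coeff (n + 1) f) + algebraMap k k⟦X⟧ (constantCoeff f) := by
    conv_lhs => rw [eq_X_mul_shift_add_const f]
    simp
  conv_lhs => rw [hC, map_add, map_mul, hX, AlgHom.commutes, map_add, map_mul, hw, MulZeroClass.zero_mul, zero_add]
  rw [IsScalarTower.algebraMap_apply k K K⟦X⟧]
  simp

theorem gaFn_ptMap {R C : Type u} [CommRing R] [Algebra k R] [CommRing C] [Algebra k C] (φ : R →ₐ[k] C)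
    (x : pt k R ⟶ Red.Ga (Spec (CommRingCat.of k))) :
    (Scheme.ΓSpecIso (CommRingCat.of C)).hom (Red.gaFn (ptMap φ ≫ x)) =
      φ ((Scheme.ΓSpecIso (CommRingCat.of R)).hom (Red.gaFn x)) := by
  rw [RedPts.gaFn_comp, ptMap_left]
  exact congrArg (fun t => t (Red.gaFn x)) (Scheme.ΓSpecIso_naturality (CommRingCat.ofHom φ.toRingHom))

/-- The common data for both groups. -/
theorem fixedPt_of_data {G X : Over (Spec (CommRingCat.of k))} [GrpObj G] [IsProper X.hom]
    (a : AlgGrp.Action G X) (x₀ : 𝟙_ _ ⟶ X) [IsIntegral G.left] {K : Type u} [Field K] [Algebra k K]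
    (g : pt k K ⟶ G) [IsDominant g.left] (P : pt k ((FractionRing k⟦X⟧)) ⟶ G) (w : K⟦X⟧) (hw : constantCoeff w = 0)
    (hw0 : w ≠ 0)
    (hP : ∀ (lK : K⟦X⟧ →ₐ[k] (FractionRing K⟦X⟧)) (cK : K →ₐ[k] K⟦X⟧) (σ' τ' : (FractionRing k⟦X⟧) →ₐ[k] (FractionRing K⟦X⟧)),
      Function.Injective lK → (∀ c, cK c = C c) →
      σ' (algebraMap k⟦X⟧ ((FractionRing k⟦X⟧)) PowerSeries.X) = lK w →
      τ' (algebraMap k⟦X⟧ ((FractionRing k⟦X⟧)) PowerSeries.X) = lK PowerSeries.X →
      (ptMap (lK.comp cK) ≫ g) * (ptMap τ' ≫ P) = ptMap σ' ≫ P) :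
    ∃ x : 𝟙_ (Over (Spec (CommRingCat.of k))) ⟶ X, a.IsFixedPt x := by
  let lK : K⟦X⟧ →ₐ[k] (FractionRing K⟦X⟧) :=
    { algebraMap K⟦X⟧ ((FractionRing K⟦X⟧)) with
      commutes' := fun c => (IsScalarTower.algebraMap_apply k K⟦X⟧ ((FractionRing K⟦X⟧)) c).symm }
  have hlK : Function.Injective lK := IsFractionRing.injective K⟦X⟧ ((FractionRing K⟦X⟧))
  let ev : k⟦X⟧ →ₐ[k] k :=
    { constantCoeff with commutes' := fun c => (by simp : constantCoeff (algebraMap k k⟦X⟧ c) = c) }
  let e0 : K⟦X⟧ →ₐ[k] K := { constantCoeff with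
    commutes' := fun c =>
      (by rw [IsScalarTower.algebraMap_apply k K K⟦X⟧]; simp : constantCoeff (algebraMap k K⟦X⟧ c) = algebraMap k K c) }
  let cK : K →ₐ[k] K⟦X⟧ := IsScalarTower.toAlgHom k K K⟦X⟧
  have hcKC : ∀ c, cK c = C c := fun c => by simp [cK, PowerSeries.algebraMap_apply]
  obtain ⟨σ, hσX, hσc⟩ := exists_subst (k := k) w hw
  obtain ⟨τ, hτX, hτc⟩ := exists_subst (k := k) (K := K) PowerSeries.X constantCoeff_X
  obtain ⟨σ', hσ'⟩ := exists_extend σ (by rw [hσX]; exact hw0) lK hlK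
  obtain ⟨τ', hτ'⟩ := exists_extend τ (by rw [hτX]; exact X_ne_zero) lK hlK
  exact exists_fixedPt_core a x₀ g P ev e0 lK hlK σ τ σ' τ' cK
    (AlgHom.ext fun c => (congrArg constantCoeff (hcKC c)).trans (constantCoeff_C c))
    (AlgHom.ext hσc) (AlgHom.ext hτc) (AlgHom.ext hσ') (AlgHom.ext hτ')
    (hP lK cK σ' τ' hlK hcKC (by rw [hσ', hσX]) (by rw [hτ', hτX]))

theorem fixedPt_Ga {G X : Over (Spec (CommRingCat.of k))} [GrpObj G] [IsProper X.hom]
    (e : Red.Ga (Spec (CommRingCat.of k)) ⟶ G) [IsIso e]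
    (hmul : ∀ (T : Over (Spec (CommRingCat.of k))) (x y : T ⟶ Red.Ga (Spec (CommRingCat.of k))), (x * y) ≫ e = (x ≫ e) * (y ≫ e))
    (a : AlgGrp.Action G X) (x₀ : 𝟙_ _ ⟶ X) : ∃ x : 𝟙_ (Over (Spec (CommRingCat.of k))) ⟶ X, a.IsFixedPt x := by
  let R := Polynomial k
  let fn : ∀ (C : Type u) [CommRing C] [Algebra k C], (pt k C ⟶ Red.Ga (Spec (CommRingCat.of k))) → C :=
    fun C _ _ x => (Scheme.ΓSpecIso (CommRingCat.of C)).hom (Red.gaFn x)
  have fn_mul : ∀ (C : Type u) [CommRing C] [Algebra k C] (x y : pt k C ⟶ Red.Ga (Spec (CommRingCat.of k))),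
      fn C (x * y) = fn C x + fn C y := fun C _ _ x y => by
    show (Scheme.ΓSpecIso (CommRingCat.of C)).hom (Red.gaFn (x * y)) = _
    rw [RedPts.gaFn_mul, map_add]
  have fn_inj : ∀ (C : Type u) [CommRing C] [Algebra k C] (x y : pt k C ⟶ Red.Ga (Spec (CommRingCat.of k))),
      fn C x = fn C y → x = y := fun C _ _ x y h =>
    RedPts.gaFn_injective ((ConcreteCategory.bijective_of_isIso (Scheme.ΓSpecIso (CommRingCat.of C)).hom).1 h)
  let v : pt k R ⟶ Red.Ga (Spec (CommRingCat.of k)) :=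
    RedPts.gaPt (T := pt k R) ((Scheme.ΓSpecIso (CommRingCat.of R)).inv Polynomial.X)
  have hv : fn R v = Polynomial.X := by
    show (Scheme.ΓSpecIso (CommRingCat.of R)).hom (Red.gaFn v) = _
    rw [RedPts.gaFn_gaPt]
    exact Iso.inv_hom_id_apply (Scheme.ΓSpecIso (CommRingCat.of R)) _
  have hmap : ∀ (C : Type u) [CommRing C] [Algebra k C] (φ : R →ₐ[k] C), fn C (ptMap φ ≫ v) = φ Polynomial.X :=
    fun C _ _ φ => (gaFn_ptMap φ v).trans (congrArg φ hv)
  haveI : IsIso v := exists_iso_of_universal v fun C _ _ x => ⟨Polynomial.aeval (fn C x),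
    fn_inj C _ _ (by rw [hmap, Polynomial.aeval_X]), fun φ hφ => Polynomial.algHom_ext (by
      rw [Polynomial.aeval_X, ← hφ, hmap])⟩
  haveI : IsIso (v ≫ e) := inferInstance
  obtain ⟨hint, hdom⟩ := dominant_generic (v ≫ e)
  haveI := hint; haveI := hdom
  let K := FractionRing R
  let s : K := algebraMap R K Polynomial.X
  let T : (FractionRing k⟦X⟧) := algebraMap k⟦X⟧ ((FractionRing k⟦X⟧)) PowerSeries.X
  let d : K⟦X⟧ := 1 + C s * PowerSeries.X
  refine fixedPt_of_data a x₀ (K := K) (ptMap (IsScalarTower.toAlgHom k R K) ≫ v ≫ e)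
    (ptMap (Polynomial.aeval T⁻¹) ≫ v ≫ e) (PowerSeries.X * invOfUnit d 1) (by simp)
    ?_ fun lK cK σ' τ' hlK hcK hσ hτ => ?_
  · refine mul_ne_zero X_ne_zero fun h => ?_
    have h1 := mul_invOfUnit d 1 (by simp [d])
    rw [h, MulZeroClass.mul_zero] at h1
    exact zero_ne_one h1
  · simp only [← Category.assoc, ← Repr.ptMap_comp]
    rw [← hmul]
    congr 1
    apply fn_inj
    rw [fn_mul, hmap, hmap, hmap]
    simp only [AlgHom.comp_apply, IsScalarTower.toAlgHom_apply]
    rw [show (Polynomial.aeval T⁻¹) (Polynomial.X : R) = T⁻¹ from Polynomial.aeval_X _, map_inv₀, map_inv₀]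
    rw [hτ, hσ, hcK]
    show lK (C s) + _ = _
    have hd : lK d * lK (invOfUnit d 1) = 1 := by
      rw [← map_mul, mul_invOfUnit d 1 (by simp [d]), map_one]
    have hXne : lK PowerSeries.X ≠ 0 := fun h => X_ne_zero (hlK (h.trans (map_zero lK).symm))
    rw [map_mul lK PowerSeries.X, _root_.mul_inv, inv_eq_of_mul_eq_one_left hd]
    show lK (C s) + _ = _ * lK (1 + C s * PowerSeries.X)
    rw [map_add, map_one, map_mul]
    field_simp
    ring

theorem fixedPt_Gm {G X : Over (Spec (CommRingCat.of k))} [GrpObj G] [IsProper X.hom]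
    (e : Red.Gm (Spec (CommRingCat.of k)) ⟶ G) [IsIso e]
    (hmul : ∀ (T : Over (Spec (CommRingCat.of k))) (x y : T ⟶ Red.Gm (Spec (CommRingCat.of k))), (x * y) ≫ e = (x ≫ e) * (y ≫ e))
    (a : AlgGrp.Action G X) (x₀ : 𝟙_ _ ⟶ X) : ∃ x : 𝟙_ (Over (Spec (CommRingCat.of k))) ⟶ X, a.IsFixedPt x := by
  let R := LaurentPolynomial k
  let v : pt k R ⟶ Red.Gm (Spec (CommRingCat.of k)) := Repr.gmPt k (Repr.unitT k)
  have hmap : ∀ (C : Type u) [CommRing C] [Algebra k C] (φ : R →ₐ[k] C),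
      ptMap φ ≫ v = Repr.gmPt k (Units.map (φ : R →* C) (Repr.unitT k)) := fun C _ _ φ => Repr.gmPt_map k φ _
  have hTn : ∀ n : ℤ, (((Repr.unitT k) ^ n : Rˣ) : R) = LaurentPolynomial.T n := fun n => by
    induction n using Int.induction_on with
    | zero => simp
    | succ m ih => rw [zpow_add, Units.val_mul, ih, zpow_one, Repr.unitT, IsUnit.unit_spec, ← LaurentPolynomial.T_add]
    | pred m ih =>
      rw [zpow_sub, Units.val_mul, ih, zpow_one]
      refine (Units.mul_inv_eq_iff_eq_mul _).2 ?_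
      rw [Repr.unitT, IsUnit.unit_spec, ← LaurentPolynomial.T_add]
      simp
  haveI : IsIso v := exists_iso_of_universal v fun C _ _ x => by
    obtain ⟨w, rfl⟩ := (Repr.gmPt k (R := C)).surjective x
    refine ⟨Repr.evalUnit w, (hmap C (Repr.evalUnit w)).trans (by rw [Repr.evalUnit_unitT]), fun φ hφ => ?_⟩
    replace hφ := (hmap C φ).symm.trans hφ
    have h1 : Units.map (φ : R →* C) (Repr.unitT k) = w := (Repr.gmPt k).injective hφ
    have h2 : ∀ n : ℤ, φ (LaurentPolynomial.T n) = ((w ^ n : Cˣ) : C) := fun n => by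
      rw [← h1, ← map_zpow, Units.coe_map, hTn]
      rfl
    refine AlgHom.ext fun p => ?_
    induction p using LaurentPolynomial.induction_on' with
    | add p q hp hq => rw [map_add, map_add, hp, hq]
    | C_mul_T n c =>
      rw [Repr.evalUnit_C_mul_T, map_mul, h2, show LaurentPolynomial.C c = algebraMap k R c from rfl,
        AlgHom.commutes, Algebra.smul_def]
  obtain ⟨hint, hdom⟩ := dominant_generic (v ≫ e)
  haveI := hint; haveI := hdom
  let K := FractionRing R
  let s : K := algebraMap R K (LaurentPolynomial.T 1)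
  have hs : s ≠ 0 := fun h => (LaurentPolynomial.isUnit_T (R := k) 1).ne_zero
    (IsFractionRing.injective R K (h.trans (map_zero _).symm))
  let T : (FractionRing k⟦X⟧) := algebraMap k⟦X⟧ ((FractionRing k⟦X⟧)) PowerSeries.X
  have hT : T ≠ 0 := fun h => X_ne_zero (IsFractionRing.injective k⟦X⟧ ((FractionRing k⟦X⟧)) (h.trans (map_zero _).symm))
  refine fixedPt_of_data a x₀ (K := K) (ptMap (IsScalarTower.toAlgHom k R K) ≫ v ≫ e)
    (Repr.gmPt k (Units.mk0 T hT) ≫ e) (C s * PowerSeries.X) (by simp)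
    (mul_ne_zero (fun h => hs (C_injective (h.trans (map_zero _).symm))) X_ne_zero)
    fun lK cK σ' τ' hlK hcK hσ hτ => ?_
  simp only [← Category.assoc, ← Repr.ptMap_comp]
  rw [← hmul, hmap, Repr.gmPt_map, Repr.gmPt_map, ← map_mul]
  congr 2
  refine Units.ext ?_
  show lK (cK s) * τ' T = σ' T
  rw [hτ, hσ, hcK, map_mul]

end GrothLib.FixPt13
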