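import Groth.Agent.Lib.Repr.AffinePts
import Groth.Prelude.Def_AlgGrp
import Groth.Agent.Lib.GrpSchField.Shear
import Mathlib

/-!
# A fixed point from the limit of an orbit of a one-dimensional group
-/

universe u

open CategoryTheory CategoryTheory.Limits MonoidalCategory CartesianMonoidalCategory MonObj GrpObj
open AlgebraicGeometry VecGrp PowerSeries

set_option backward.isDefEq.respectTransparency false

noncomputable section

namespace GrothLib.FixPt13

variable {k : Type u} [Field k]

theorem hom_ext_frac {A K : Type u} [CommRing A] [IsDomain A] [Field K] [Algebra k A] [Algebra k K]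
    (τ : A →ₐ[k] K) (hτ : Function.Injective τ) {X : Over (Spec (CommRingCat.of k))} [IsSeparated X.hom]
    (f g : pt k A ⟶ X) (h : ptMap τ ≫ f = ptMap τ ≫ g) : f = g := by
  refine Over.OverMorphism.ext ?_
  haveI : IsDominant (ptMap τ).left := by
    rw [ptMap_left]
    refine ⟨(PrimeSpectrum.denseRange_comap_iff_ker_le_nilRadical τ.toRingHom).mpr ?_⟩
    rw [(RingHom.injective_iff_ker_eq_bot _).mp (show Function.Injective τ.toRingHom from hτ)]
    exact bot_le
  haveI : IsReduced (pt k A).left := inferInstanceAs (IsReduced (Spec (CommRingCat.of A)))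
  exact ext_of_isDominant_of_isSeparated X.hom ((Over.w f).trans (Over.w g).symm) (ptMap τ).left
    (congrArg CommaMorphism.left h)

/-- The limit of an orbit at a place which is moved trivially by the group is a fixed point. -/
theorem exists_fixedPt_core {G X : Over (Spec (CommRingCat.of k))} [GrpObj G] [IsProper X.hom]
    (a : AlgGrp.Action G X) (x₀ : 𝟙_ _ ⟶ X) [IsIntegral G.left]
    {R L K R' L' : Type u} [CommRing R] [IsDomain R] [ValuationRing R] [Algebra k R] [Field L] [Algebra k L]
    [Algebra R L] [IsScalarTower k R L] [IsFractionRing R L] [Field K] [Algebra k K]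
    [CommRing R'] [IsDomain R'] [Algebra k R'] [Field L'] [Algebra k L']
    (g : pt k K ⟶ G) [IsDominant g.left] (P : pt k L ⟶ G)
    (ev : R →ₐ[k] k) (e0 : R' →ₐ[k] K) (lK : R' →ₐ[k] L') (hlK : Function.Injective lK)
    (σ τ : R →ₐ[k] R') (σ' τ' : L →ₐ[k] L') (cK : K →ₐ[k] R')
    (hcK : e0.comp cK = AlgHom.id k K) (hσ : e0.comp σ = (Algebra.ofId k K).comp ev)
    (hτ : e0.comp τ = (Algebra.ofId k K).comp ev)
    (hσ' : σ'.comp (IsScalarTower.toAlgHom k R L) = lK.comp σ)
    (hτ' : τ'.comp (IsScalarTower.toAlgHom k R L) = lK.comp τ)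
    (hP : (ptMap (lK.comp cK) ≫ g) * (ptMap τ' ≫ P) = ptMap σ' ≫ P) :
    ∃ x : 𝟙_ (Over (Spec (CommRingCat.of k))) ⟶ X, a.IsFixedPt x := by
  let lk : R →ₐ[k] L := IsScalarTower.toAlgHom k R L
  let Q : pt k L ⟶ X := lift P (toUnit _ ≫ x₀) ≫ a.act
  obtain ⟨l, hl⟩ : ∃ l : pt k R ⟶ X, ptMap lk ≫ l = Q := by
    let S : ValuativeCommSq X.hom :=
      { R := R
        K := L
        i₁ := Q.left
        i₂ := Spec.map (CommRingCat.ofHom (algebraMap k R))
        commSq := ⟨by
          rw [Over.w Q]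
          show Spec.map _ = Spec.map _ ≫ Spec.map _
          rw [← Spec.map_comp, ← CommRingCat.ofHom_comp, ← IsScalarTower.algebraMap_eq]⟩ }
    have hE : ValuativeCriterion.Existence X.hom := by
      have := (inferInstance : UniversallyClosed X.hom)
      rw [UniversallyClosed.eq_valuativeCriterion] at this
      exact this.1
    obtain ⟨t⟩ := (hE S).exists_lift
    refine ⟨Over.homMk t.l t.fac_right, Over.OverMorphism.ext ?_⟩
    rw [Over.comp_left, ptMap_left]
    exact t.fac_left
  let e : 𝟙_ (Over (Spec (CommRingCat.of k))) ⟶ pt k k := Over.homMk (𝟙 _) (by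
    show 𝟙 _ ≫ Spec.map (CommRingCat.ofHom (algebraMap k k)) = _
    rw [Category.id_comp, Algebra.algebraMap_self]
    exact Spec.map_id _)
  refine ⟨e ≫ ptMap ev ≫ l, fun T t => ?_⟩
  -- the identity on points with values in power series
  have key : (lift (ptMap cK ≫ g) (ptMap τ ≫ l)) ≫ a.act = ptMap σ ≫ l := by
    refine hom_ext_frac lK hlK _ _ ?_
    have hsl : ptMap lK ≫ ptMap σ = ptMap σ' ≫ ptMap lk := by
      rw [← Repr.ptMap_comp, ← Repr.ptMap_comp, hσ']
    have hil : ptMap lK ≫ ptMap τ = ptMap τ' ≫ ptMap lk := by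
      rw [← Repr.ptMap_comp, ← Repr.ptMap_comp, hτ']
    rw [reassoc_of% hsl, hl, ← Category.assoc, comp_lift, reassoc_of% hil, hl, ← Category.assoc (ptMap lK) (ptMap cK),
      ← Repr.ptMap_comp]
    simp only [Q, comp_lift_assoc, Category.assoc, comp_toUnit_assoc]
    rw [← hP, GrothLib.GrpSchField.act_mul]
  -- at the closed point
  let kK : k →ₐ[k] K := Algebra.ofId k K
  have h1 : ptMap e0 ≫ ptMap σ = ptMap kK ≫ ptMap ev := by
    rw [← Repr.ptMap_comp, ← Repr.ptMap_comp, hσ]
  have h2 : ptMap e0 ≫ ptMap τ = ptMap kK ≫ ptMap ev := by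
    rw [← Repr.ptMap_comp, ← Repr.ptMap_comp, hτ]
  have h3 : ptMap e0 ≫ ptMap cK = 𝟙 _ := by
    rw [← Repr.ptMap_comp, hcK, Repr.ptMap_id]
  have h4 : ptMap kK = toUnit _ ≫ e := by
    refine Over.OverMorphism.ext ?_
    rw [ptMap_left, Over.comp_left]
    show _ = _ ≫ 𝟙 _
    rw [Category.comp_id, toUnit_left]
    rfl
  have key2 : lift g (toUnit _ ≫ e ≫ ptMap ev ≫ l) ≫ a.act = toUnit _ ≫ e ≫ ptMap ev ≫ l := by
    have := congrArg (ptMap e0 ≫ ·) key
    simp only [comp_lift_assoc, reassoc_of% h1, reassoc_of% h2, reassoc_of% h3] at this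
    rw [h4] at this
    simpa only [Category.assoc] using this
  have key3 : lift (𝟙 G) (toUnit G ≫ e ≫ ptMap ev ≫ l) ≫ a.act = toUnit G ≫ e ≫ ptMap ev ≫ l := by
    refine Over.OverMorphism.ext (ext_of_isDominant_of_isSeparated X.hom ((Over.w _).trans (Over.w _).symm) g.left ?_)
    rw [← Over.comp_left, ← Over.comp_left]
    refine congrArg CommaMorphism.left ?_
    simp only [comp_lift_assoc, comp_toUnit_assoc, Category.comp_id]
    exact key2
  have := congrArg (t ≫ ·) key3
  simp only [comp_lift_assoc, comp_toUnit_assoc, Category.comp_id] at this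
  exact this
where
  toUnit_left {T : Over (Spec (CommRingCat.of k))} : (toUnit T).left = T.hom :=
    (Category.comp_id _).symm.trans (Over.w (toUnit T))

end GrothLib.FixPt13
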